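import Cfsg.Agent.H805.K4.Bit
import Cfsg.Agent.H707.RowTitsModel
import Cfsg.Agent.H705.S4790.Step
import Cfsg.Agent.Schreier.ThreeGenSyl

/-!
# The Sylow 2-subgroups of the Tits group (helper805)

They are generated by two elements which do not commute: `twoGen_T`, `frattini_T : (frattini P).index = 4`.
-/

set_option autoImplicit false
set_option maxRecDepth 100000
set_option exponentiation.threshold 5000

namespace Cfsg.Agent.H805.K4.TitsSyl

open Cfsg Cfsg.Agent.H805.K4.Bit
open Cfsg.Agent.SporadicB.RuData Cfsg.Agent.SporadicB.RuOrder Cfsg.Agent.SporadicB.RuTitsData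
open Cfsg.Agent.SporadicB.RuTits
open Cfsg.Agent.Lib.BitNet Cfsg.Agent.Lib.BitNetSimple
open MulAction

/-- Generated by two elements which do not commute. -/
def TwoGen (P : Type*) [Group P] : Prop := ∃ a b : P, Subgroup.closure {a, b} = ⊤ ∧ a * b ≠ b * a

theorem TwoGen.congr {P Q : Type*} [Group P] [Group Q] (h : TwoGen P) (e : P ≃* Q) : TwoGen Q := by
  obtain ⟨a, b, h1, h2⟩ := h
  refine ⟨e a, e b, ?_, fun h => h2 (e.injective (by rw [map_mul, map_mul, h]))⟩
  have h3 : ({e a, e b} : Set Q) = e.toMonoidHom '' {a, b} := by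
    rw [Set.image_pair]
    rfl
  rw [h3, ← MonoidHom.map_closure, h1, ← MonoidHom.range_eq_map, MonoidHom.range_eq_top]
  exact e.surjective

/-- The Frattini subgroup of such a 2-group has index 4. -/
theorem TwoGen.index_frattini {P : Type*} [Group P] [Finite P] (h : TwoGen P) (hP : IsPGroup 2 P) :
    (frattini P).index = 4 := by
  classical
  have : Fact (Nat.Prime 2) := ⟨Nat.prime_two⟩
  obtain ⟨a, b, h1, h2⟩ := h
  have hc : ¬ IsCyclic P := by
    intro hc
    have := hc.commGroup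
    apply h2
    exact (@IsMulCommutative.is_comm P _ (IsCyclic.isMulCommutative)).comm a b
  have h3 := H705.S4790.sq_le_index_frattini hP hc
  obtain ⟨n, hn⟩ := hP.index (frattini P)
  have h4 := (Cfsg.Agent.S0014.result 2 n hP hn).2 {a, b} (by
    rw [Finset.coe_insert, Finset.coe_singleton]
    exact h1)
  have h5 : n ≤ 2 := h4.trans Finset.card_le_two
  have h6 : (frattini P).index ≤ 2 ^ 2 := by
    rw [hn]
    exact Nat.pow_le_pow_right (by norm_num) h5
  omega

/-! ### the subgroup of order 2048 -/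

def g2 : List (ℕ × ℕ) := k0 ++ k0

/-- a word fixing the point 4 -/
def w : List (ℕ × ℕ) := g2 ++ (k1 ++ (g2 ++ (k1.reverse ++ (k1.reverse ++ (g2 ++ (k1 ++ (g2.reverse ++
  (k1.reverse ++ k1.reverse))))))))

theorem gmem : Mem T1 g2 := kmem0.append kmem0

def Q : Subgroup (Equiv.Perm (Fin 4060)) := Subgroup.closure {perm kmem1.1, perm gmem.1}

theorem Q_le : Q ≤ T1 := by
  rw [Q, Subgroup.closure_le]
  rintro g (rfl | rfl)
  · exact kmem1.2
  · exact gmem.2

theorem qk : Mem Q k1 := ⟨kmem1.1, Subgroup.subset_closure (Or.inl rfl)⟩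
theorem qg : Mem Q g2 := ⟨gmem.1, Subgroup.subset_closure (Or.inr rfl)⟩

theorem gensQ : ∀ g ∈ [k1, g2], Mem Q g := by
  intro g hg
  simp only [List.mem_cons, List.not_mem_nil, or_false] at hg
  rcases hg with rfl | rfl
  exacts [qk, qg]

def Q2 : Subgroup (Equiv.Perm (Fin 4060)) := Q ⊓ stabilizer (Equiv.Perm (Fin 4060)) p2

theorem wfix : Nat.beq (appF w 4) 4 = true := by decide +kernel

theorem qw : Mem Q2 w :=
  Mem.stab (qg.append (qk.append (qg.append (qk.reverse.append (qk.reverse.append (qg.append (qk.append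
    (qg.reverse.append (qk.reverse.append qk.reverse))))))))) wfix

theorem gensQ2 : ∀ g ∈ [w], Mem Q2 g := by
  intro g hg
  simp only [List.mem_cons, List.not_mem_nil, or_false] at hg
  rcases hg with rfl
  exact qw

def z1 : Fin 4060 := ⟨1, by norm_num⟩

theorem orbQ : Nat.ble 1024 (popc 12 (iterF [k1, g2] 20 (Nat.pow 2 4))) = true := by decide +kernel
theorem orbQ2 : Nat.ble 2 (popc 12 (iterF [w] 1 (Nat.pow 2 1))) = true := by decide +kernel

theorem lowQ : 1024 * Nat.card Q2 ≤ Nat.card Q := lower_step' (L := 12) (k := 20) gensQ orbQ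
theorem lowQ2 : 2 * Nat.card (Q2 ⊓ stabilizer (Equiv.Perm (Fin 4060)) z1 : Subgroup (Equiv.Perm (Fin 4060))) ≤
    Nat.card Q2 := lower_step' (L := 12) (k := 1) gensQ2 orbQ2

/-- a point of the orbit of length 10 -/
def z : Fin 4060 := ⟨297, by norm_num⟩

def z' : Fin 4060 := ⟨2606, by norm_num⟩

theorem orbT1z : Nat.ble 10 (popc 12 (iterF [k0, k1] 6 (Nat.pow 2 297))) = true := by decide +kernel

theorem lowT1z : 10 * Nat.card (T1 ⊓ stabilizer (Equiv.Perm (Fin 4060)) z : Subgroup (Equiv.Perm (Fin 4060))) ≤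
    Nat.card T1 := lower_step' (L := 12) (k := 6) gensT1 orbT1z

def mz : ℕ := Nat.add (Nat.pow 2 297) (Nat.pow 2 2606)

theorem mz_inv0 : Nat.beq (appMF k1 mz) mz = true := by decide +kernel
theorem mz_inv1 : Nat.beq (appMF g2 mz) mz = true := by decide +kernel

theorem popc_mz : Nat.beq (popc 12 mz) 2 = true := by decide +kernel

theorem mz_z : tb mz 297 = true := by decide +kernel

theorem mz_inv (g : Equiv.Perm (Fin 4060)) (hg : g ∈ Q) (x : Fin 4060) : mz.testBit (g x) = mz.testBit x := by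
  refine inv_closure ?_ hg x
  rintro g (rfl | rfl)
  · exact inv_of _ mz_inv0
  · exact inv_of _ mz_inv1

theorem card_orbit_le : Nat.card (orbit Q z) ≤ 2 := by
  classical
  have h1 : orbit Q z ⊆ ((pts 4060 mz : Finset (Fin 4060)) : Set (Fin 4060)) := by
    rintro _ ⟨g, rfl⟩
    rw [Finset.mem_coe, mem_pts]
    have h2 := mz_inv g.1 g.2 z
    have h3 := mz_z
    rw [tb_eq] at h3
    have h4 : mz.testBit (z : ℕ) = true := h3
    rw [h4] at h2
    exact h2
  rw [Nat.card_coe_set_eq]
  refine (Set.ncard_le_ncard h1 (Finset.finite_toSet _)).trans ?_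
  rw [Set.ncard_coe_finset]
  refine (card_pts_le (K := 12) (by norm_num) _).trans ?_
  rw [Nat.eq_of_beq_eq_true popc_mz]

theorem card_Q : Nat.card Q = 2048 := by
  have h1 := lowQ
  have h2 := lowQ2
  have h3 : 0 < Nat.card (Q2 ⊓ stabilizer (Equiv.Perm (Fin 4060)) z1 : Subgroup (Equiv.Perm (Fin 4060))) :=
    Nat.card_pos
  have h4 := lowT1z
  rw [card_T1] at h4
  have h5 := card_eq_orbit_mul Q z
  have h6 : Nat.card (Q ⊓ stabilizer (Equiv.Perm (Fin 4060)) z : Subgroup (Equiv.Perm (Fin 4060))) ≤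
      Nat.card (T1 ⊓ stabilizer (Equiv.Perm (Fin 4060)) z : Subgroup (Equiv.Perm (Fin 4060))) :=
    Subgroup.card_le_of_le (inf_le_inf_right _ Q_le)
  have h7 := card_orbit_le
  have h8 : Nat.card Q ≤ 2 * 1024 := by
    rw [h5]
    exact Nat.mul_le_mul h7 (h6.trans (by omega))
  omega

theorem ncomm : Nat.beq (appF (k1 ++ g2) 5) (appF (g2 ++ k1) 5) = false := by decide +kernel

theorem twoGen_Q : TwoGen Q := by
  refine ⟨⟨perm kmem1.1, qk.2⟩, ⟨perm gmem.1, qg.2⟩, ?_, ?_⟩
  · rw [eq_top_iff]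
    intro x _
    have h1 : (Subgroup.closure ({⟨perm kmem1.1, qk.2⟩, ⟨perm gmem.1, qg.2⟩} : Set Q)).map Q.subtype = Q := by
      rw [MonoidHom.map_closure, Set.image_pair]
      rfl
    have h2 : (x : Equiv.Perm (Fin 4060)) ∈
        (Subgroup.closure ({⟨perm kmem1.1, qk.2⟩, ⟨perm gmem.1, qg.2⟩} : Set Q)).map Q.subtype := by
      rw [h1]
      exact x.2
    obtain ⟨y, hy, hyx⟩ := h2
    have : y = x := Subtype.ext hyx
    rwa [← this]
  · intro h
    have h1 := congrArg Subtype.val h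
    have h2 : perm gmem.1 (perm kmem1.1 ⟨5, by norm_num⟩) = perm kmem1.1 (perm gmem.1 (⟨5, by norm_num⟩ : Fin 4060)) := by
      rw [← Equiv.Perm.mul_apply, ← Equiv.Perm.mul_apply]
      exact congrArg (fun σ : Equiv.Perm (Fin 4060) => σ ⟨5, by norm_num⟩) h1.symm
    have h3 := congrArg Fin.val h2
    rw [perm_apply, perm_apply, perm_apply, perm_apply] at h3
    have h4 := ncomm
    rw [appF_eq, appF_eq, app_append, app_append] at h4
    have h5 : Nat.beq (app g2 (app k1 5)) (app k1 (app g2 5)) = true := by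
      rw [Nat.beq_eq]
      exact h3
    rw [h5] at h4
    exact Bool.noConfusion h4

instance : Finite T := Nat.finite_of_card_ne_zero (by rw [card_T]; norm_num)

theorem Q_le_T : Q ≤ T := Q_le.trans inf_le_left

/-- **The Sylow 2-subgroups are generated by two elements.** -/
theorem twoGen_T (P : Sylow 2 T) : TwoGen ↥(P : Subgroup T) := by
  have : Fact (Nat.Prime 2) := ⟨Nat.prime_two⟩
  have hc : Nat.card (Q.subgroupOf T) = 2 ^ (Nat.card T).factorization 2 := by
    rw [Nat.card_congr (Subgroup.subgroupOfEquivOfLe Q_le_T).toEquiv, card_Q, card_T]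
    have h1 : (17971200 : ℕ) = 2 ^ 11 * 8775 := by norm_num
    have h2 : Nat.factorization (2 ^ 11 * 8775) 2 = 11 := by
      rw [Nat.factorization_mul (by norm_num) (by norm_num), Nat.factorization_pow]
      rw [Finsupp.add_apply, Finsupp.smul_apply, Nat.prime_two.factorization_self]
      rw [Nat.factorization_eq_zero_of_not_dvd (by norm_num)]
      norm_num
    rw [h1, h2]
    norm_num
  let P₀ : Sylow 2 T := Sylow.ofCard (Q.subgroupOf T) hc
  have e1 : ↥(P₀ : Subgroup T) ≃* ↥(P : Subgroup T) := Sylow.equiv P₀ P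
  have h1 : TwoGen ↥(P₀ : Subgroup T) := twoGen_Q.congr (Subgroup.subgroupOfEquivOfLe Q_le_T).symm
  exact h1.congr e1

theorem frattini_T (P : Sylow 2 T) : (frattini ↥(P : Subgroup T)).index = 4 :=
  (twoGen_T P).index_frattini P.2

end Cfsg.Agent.H805.K4.TitsSyl
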