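import Cfsg.Agent.H714.K4.Basic
import Cfsg.Agent.H686.CharKit
import Cfsg.Agent.S0165
import Cfsg.Agent.Blocks.Central

/-!
# Five characters of odd degree from three which vanish at an element (helper805)

`five_le_k0` : three different irreducible characters of odd degree vanishing at some `x ≠ 1` give `5 ≤ k0 G`;
`five_le_k0_of_full` : the case of characters of `p`-defect zero (the full power `p ^ n` divides the degrees).
-/

set_option autoImplicit false

open scoped ComplexConjugate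

namespace Cfsg.Agent.H805.K4

open Cfsg Cfsg.Agent.Characters.Core Cfsg.Agent.H714.K4

universe u

variable {G : Type u} [Group G] [Finite G]

/-- Three different irreducible characters of odd degree which vanish at `x ≠ 1`. -/
theorem five_le_k0 {χ : Fin 3 → G → ℂ} (hinj : Function.Injective χ) (hodd : ∀ i, χ i ∈ odd G) {x : G} (hx : x ≠ 1)
    (h0 : ∀ i, χ i x = 0) : 5 ≤ k0 G := by
  classical
  have := finite_irr (G := G)
  have := Fintype.ofFinite (IrrCharacter G)
  by_contra hlt
  push Not at hlt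
  set O : Finset (IrrCharacter G) := Finset.univ.filter fun χ : IrrCharacter G => ¬ 2 ∣ charDegree (χ : G → ℂ)
    with hO
  have hk : k0 G = O.card := by
    rw [k0, Nat.card_eq_fintype_card, Fintype.card_subtype]
  let F : Fin 4 → IrrCharacter G := Fin.cons ⟨(1 : G → ℂ), one_mem_odd.1⟩ fun i => ⟨χ i, (hodd i).1⟩
  have hF0 : F 0 = ⟨(1 : G → ℂ), one_mem_odd.1⟩ := rfl
  have hFs : ∀ i : Fin 3, F i.succ = ⟨χ i, (hodd i).1⟩ := fun i => rfl
  have hFinj : Function.Injective F := by
    rw [Fin.cons_injective_iff]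
    constructor
    · rintro ⟨i, hi⟩
      have h1 : χ i = (1 : G → ℂ) := congrArg Subtype.val hi
      have h2 := h0 i
      rw [h1] at h2
      exact one_ne_zero h2
    · intro i j hij
      exact hinj (congrArg Subtype.val hij)
  have hFO : ∀ i, F i ∈ O := by
    intro i
    rw [hO, Finset.mem_filter]
    refine ⟨Finset.mem_univ _, ?_⟩
    refine Fin.cases ?_ (fun i => ?_) i
    · exact one_mem_odd.2
    · exact (hodd i).2
  have himg : Finset.univ.image F = O := by
    apply Finset.eq_of_subset_of_card_le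
    · intro y hy
      obtain ⟨i, -, rfl⟩ := Finset.mem_image.1 hy
      exact hFO i
    · rw [Finset.card_image_of_injective _ hFinj, Finset.card_univ, Fintype.card_fin]
      omega
  -- the column
  have hcol := Cfsg.Agent.H686.CharKit.col_orth x (1 : G)
  rw [if_neg (fun h => hx (isConj_one_left.1 h))] at hcol
  have hsplit := Finset.sum_filter_add_sum_filter_not (Finset.univ : Finset (IrrCharacter G))
    (fun χ : IrrCharacter G => ¬ 2 ∣ charDegree (χ : G → ℂ))
    (fun χ : IrrCharacter G => (χ : G → ℂ) x * conj ((χ : G → ℂ) 1))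
  rw [hcol] at hsplit
  have h1 : ∑ χ ∈ O, (χ : G → ℂ) x * conj ((χ : G → ℂ) 1) = 1 := by
    rw [← himg, Finset.sum_image fun i _ j _ h => hFinj h, Fin.sum_univ_succ]
    have h2 : ∀ i : Fin 3, ((F i.succ : IrrCharacter G) : G → ℂ) x * conj (((F i.succ : IrrCharacter G) : G → ℂ) 1)
        = 0 := by
      intro i
      rw [hFs]
      show χ i x * _ = 0
      rw [h0, zero_mul]
    rw [Finset.sum_congr rfl fun i _ => h2 i, Finset.sum_const_zero, add_zero, hF0]
    show (1 : ℂ) * conj (1 : ℂ) = 1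
    rw [map_one, mul_one]
  set α : ℂ := ∑ χ ∈ Finset.univ.filter (fun χ : IrrCharacter G => ¬ ¬ 2 ∣ charDegree (χ : G → ℂ)),
    ((charDegree (χ : G → ℂ) / 2 : ℕ) : ℂ) * (χ : G → ℂ) x with hα
  have h2 : ∑ χ ∈ Finset.univ.filter (fun χ : IrrCharacter G => ¬ ¬ 2 ∣ charDegree (χ : G → ℂ)),
      (χ : G → ℂ) x * conj ((χ : G → ℂ) 1) = 2 * α := by
    rw [hα, Finset.mul_sum]
    refine Finset.sum_congr rfl fun χ hχ => ?_
    have h3 : 2 ∣ charDegree (χ : G → ℂ) := not_not.1 (Finset.mem_filter.1 hχ).2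
    obtain ⟨m, hm⟩ := h3
    rw [← Cfsg.Agent.H686.CharKit.charDegree_irr χ, hm, Nat.mul_div_cancel_left m (by norm_num), Complex.conj_natCast]
    push_cast
    ring
  have h3 : (1 : ℂ) + 2 * α = 0 := by
    rw [← h2, ← h1]
    exact hsplit
  have hint : IsIntegral ℤ α := by
    rw [hα]
    refine IsIntegral.sum _ fun χ _ => IsIntegral.mul ?_ (Cfsg.Agent.Blocks.Central.isIntegral_irr χ.2 x)
    exact isIntegral_algebraMap (x := ((charDegree (χ : G → ℂ) / 2 : ℕ) : ℤ))
  have h4 : α = ((-1 / 2 : ℚ) : ℂ) := by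
    push_cast
    linear_combination (1 / 2 : ℂ) * h3
  rw [h4] at hint
  have h5 : IsIntegral ℤ (-1 / 2 : ℚ) :=
    (isIntegral_algebraMap_iff (algebraMap ℚ ℂ).injective).1 hint
  obtain ⟨z, hz⟩ := IsIntegrallyClosed.isIntegral_iff.1 h5
  have h6 : (z : ℚ) = -1 / 2 := hz
  have h7 : (2 : ℚ) * z = -1 := by rw [h6]; norm_num
  have h8 : (2 : ℤ) * z = -1 := by exact_mod_cast h7
  omega

/-- Three irreducible characters of different odd degrees divisible by the full power of the prime `p`. -/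
theorem five_le_k0_of_full {p n : ℕ} (hp : p.Prime) (hn0 : n ≠ 0) (hn : p ^ n ∣ Nat.card G)
    (hn' : ¬ p ^ (n + 1) ∣ Nat.card G) {χ : Fin 3 → IrrCharacter G} (hinj : Function.Injective χ)
    (hodd : ∀ i, ¬ 2 ∣ charDegree (χ i : G → ℂ)) (hdvd : ∀ i, p ^ n ∣ charDegree (χ i : G → ℂ)) : 5 ≤ k0 G := by
  have : Fact p.Prime := ⟨hp⟩
  obtain ⟨x, hx⟩ := exists_prime_orderOf_dvd_card' (G := G) p ((dvd_pow_self p hn0).trans hn)
  have hx1 : x ≠ 1 := by
    rintro rfl
    rw [orderOf_one] at hx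
    exact hp.one_lt.ne hx
  refine five_le_k0 (χ := fun i => (χ i : G → ℂ)) (fun i j h => hinj (Subtype.ext h)) (fun i => ⟨(χ i).2, hodd i⟩) hx1
    fun i => ?_
  have h1 := Cfsg.Agent.H686.CharKit.charDegree_irr (χ i)
  have h2 := hdvd i
  obtain ⟨m, ρ, hρ, h⟩ := (χ i).2
  have := hρ
  show (χ i : G → ℂ) x = 0
  rw [← h]
  rw [← h, Representation.char_one] at h1
  rw [← h] at h2
  have h3 : charDegree ρ.character = Module.finrank ℂ (Fin m → ℂ) := by exact_mod_cast h1
  rw [h3] at h2
  exact S0165.result ρ p n hp hn hn' h2 x (by rw [hx])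

end Cfsg.Agent.H805.K4
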