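import Cfsg.Agent.H805.K4.Tits
import Cfsg.Agent.H805.K4.Crit
import Cfsg.Agent.H707.RowTits
import Cfsg.Agent.H601.K4.Defs

/-!
# The Tits group: row (A) of S4947 (helper805)

`rowA_tits : Lie.IsoTits S → RowA S`, `odd5_tits : Lie.IsoTits S → Odd5 S`.
-/

set_option autoImplicit false

namespace Cfsg.Agent.H805.K4.Tits

open Cfsg Cfsg.Agent.Characters.Core Cfsg.Agent.H714.K4

universe u v

/-- transport of an irreducible character -/
theorem exists_of_equiv {S : Type u} {T : Type v} [Group S] [Group T] (e : S ≃* T) {d : ℕ}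
    (h : ∃ χ : IrrCharacter T, charDegree (χ : T → ℂ) = d) : ∃ χ : IrrCharacter S, charDegree (χ : S → ℂ) = d := by
  obtain ⟨χ, hχ⟩ := h
  refine ⟨⟨(χ : T → ℂ) ∘ e.toMonoidHom, isIrr_comp e.toMonoidHom e.surjective χ.2⟩, ?_⟩
  rw [← hχ]
  show ⌊((χ : T → ℂ) (e 1)).re⌋₊ = ⌊((χ : T → ℂ) 1).re⌋₊
  rw [map_one]

theorem five_le_of_degs {S : Type u} [Group S] [Finite S] (hc : Nat.card S = 17971200)
    (h27 : ∃ χ : IrrCharacter S, charDegree (χ : S → ℂ) = 27)
    (h351 : ∃ χ : IrrCharacter S, charDegree (χ : S → ℂ) = 351)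
    (h675 : ∃ χ : IrrCharacter S, charDegree (χ : S → ℂ) = 675) : 5 ≤ k0 S := by
  obtain ⟨χ₁, h1⟩ := h27
  obtain ⟨χ₂, h2⟩ := h351
  obtain ⟨χ₃, h3⟩ := h675
  refine five_le_k0_of_full (G := S) (p := 3) (n := 3) (by norm_num) (by norm_num) (by rw [hc]; norm_num)
    (by rw [hc]; norm_num) (χ := ![χ₁, χ₂, χ₃]) ?_ ?_ ?_
  · have h12 : χ₁ ≠ χ₂ := by rintro rfl; omega
    have h13 : χ₁ ≠ χ₃ := by rintro rfl; omega
    have h23 : χ₂ ≠ χ₃ := by rintro rfl; omega
    intro i j hij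
    fin_cases i <;> fin_cases j <;> simp_all
  · intro i
    fin_cases i
    · show ¬ 2 ∣ charDegree (χ₁ : S → ℂ)
      rw [h1]; norm_num
    · show ¬ 2 ∣ charDegree (χ₂ : S → ℂ)
      rw [h2]; norm_num
    · show ¬ 2 ∣ charDegree (χ₃ : S → ℂ)
      rw [h3]; norm_num
  · intro i
    fin_cases i
    · show 3 ^ 3 ∣ charDegree (χ₁ : S → ℂ)
      rw [h1]; norm_num
    · show 3 ^ 3 ∣ charDegree (χ₂ : S → ℂ)
      rw [h2]; norm_num
    · show 3 ^ 3 ∣ charDegree (χ₃ : S → ℂ)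
      rw [h3]; norm_num

/-- The Tits group has five irreducible characters of odd degree. -/
theorem k0_tits {S : Type u} [Group S] [Finite S] (h : Lie.IsoTits S) : 5 ≤ k0 S := by
  obtain ⟨e⟩ := h
  obtain ⟨f⟩ := H707.RowTits.equiv
  have hc : Nat.card S = 17971200 := by
    rw [Nat.card_congr (e.trans f).toEquiv, Cfsg.Agent.SporadicB.RuTits.card_T]
  exact five_le_of_degs hc (exists_of_equiv (e.trans f) deg_27) (exists_of_equiv (e.trans f) deg_351)
    (exists_of_equiv (e.trans f) deg_675)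

/-- Row (A) of S4947 for the Tits group. -/
theorem rowA_tits {S : Type u} [Group S] [Finite S] (h : Lie.IsoTits S) : RowA S := Or.inr (k0_tits h)

theorem odd5_of_k0 {S : Type u} [Group S] [Finite S] (h : 5 ≤ k0 S) : Cfsg.Agent.H601.K4.Odd5 S := by
  have hf := odd_finite S
  rw [k0_eq, ← Nat.card_coe_set_eq] at h
  have := hf.to_subtype
  have := Fintype.ofFinite (odd S)
  rw [Nat.card_eq_fintype_card] at h
  obtain ⟨f⟩ : Nonempty (Fin 5 ↪ odd S) := by
    apply Function.Embedding.nonempty_of_card_le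
    rwa [Fintype.card_fin]
  exact ⟨fun i => (f i : S → ℂ), fun i j hij => f.injective (Subtype.ext hij), fun i => (f i).2⟩

theorem odd5_tits {S : Type u} [Group S] [Finite S] (h : Lie.IsoTits S) : Cfsg.Agent.H601.K4.Odd5 S :=
  odd5_of_k0 (k0_tits h)

end Cfsg.Agent.H805.K4.Tits
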